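import Groth.Prelude.Def_W4c2seshadriposJets
import Groth.Agent.CurvesB.SepLift
import Groth.Agent.CohqB.DevSupport
import Groth.Agent.CycB.CohProp
import Groth.Agent.VarietyB.DegCartier
import Groth.Agent.Fga.TwistCoh

/-!
# Twists of ideal sheaves: comparison maps, supports and coherence of the cokernels
-/

set_option autoImplicit false
universe u
open CategoryTheory CategoryTheory.Limits AlgebraicGeometry Opposite TopologicalSpace

namespace K850.IdealTwist

open Groth.Agent Groth.Agent.Ega2 Groth.Agent.CurvesB.SepLift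
open Groth.Agent.CohqB.DevSupport
open Groth.Agent.Fdesc.LocGen (res ores res_res ores_ores res_smul app_res IsGen)

variable {X : Scheme.{u}}

/-- The subscheme map kills the ideal. -/
theorem idealModι_toSubscheme_of_le {I J : X.IdealSheafData} (h : I ≤ J) :
    ClSub.idealModι I ≫ ClSub.toSubscheme J = 0 := by
  refine Scheme.Modules.hom_ext _ _ fun U => ?_
  ext i
  have h1 : I.subschemeι.app U (inc I U i) = 0 := subschemeι_inc I U i
  have h2 : J.subschemeι.app U (inc I U i) = 0 := by
    have h3 : J.subschemeι = Scheme.IdealSheafData.inclusion h ≫ I.subschemeι :=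
      (Scheme.IdealSheafData.inclusion_subschemeι h).symm
    have h4 : ∀ (f : J.subscheme ⟶ X) (g : J.subscheme ⟶ I.subscheme) (e : f = g ≫ I.subschemeι),
        f.app U (inc I U i) = 0 := by
      intro f g e
      subst e
      rw [Scheme.Hom.comp_app]
      have : (I.subschemeι.app U ≫ g.app (I.subschemeι ⁻¹ᵁ U)) (inc I U i) =
          (g.app (I.subschemeι ⁻¹ᵁ U)) (I.subschemeι.app U (inc I U i)) := rfl
      exact this.trans ((congrArg _ h1).trans (map_zero _))
    exact h4 _ _ h3
  exact h2

/-- `I ⟶ J` for `I ≤ J`. -/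
noncomputable def idealMap {I J : X.IdealSheafData} (h : I ≤ J) :
    ClSub.idealMod I ⟶ ClSub.idealMod J :=
  kernel.lift _ (ClSub.idealModι I) (idealModι_toSubscheme_of_le h)

theorem idealMap_ι {I J : X.IdealSheafData} (h : I ≤ J) :
    idealMap h ≫ ClSub.idealModι J = ClSub.idealModι I :=
  kernel.lift_ι _ _ _

/-- `I ⊗ L ⟶ J ⊗ L` for `I ≤ J`. -/
noncomputable def twMap {I J : X.IdealSheafData} (h : I ≤ J) (L : X.Modules) :
    CohB1.tensorMod (ClSub.idealMod I) L ⟶ CohB1.tensorMod (ClSub.idealMod J) L :=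
  Tens.mapT (idealMap h) (𝟙 L)

theorem twMap_mu {I J : X.IdealSheafData} (h : I ≤ J) (L : X.Modules) :
    twMap h L ≫ mu J L = mu I L := by
  unfold twMap mu
  rw [← Category.assoc, ← Tens.mapT_comp, idealMap_ι, Category.id_comp]

theorem mono_twMap {I J : X.IdealSheafData} (h : I ≤ J) {L : X.Modules} (hL : PicF.IsInvertible L) :
    Mono (twMap h L) := by
  have := mono_mu I hL
  rw [← twMap_mu h L] at this
  exact mono_of_mono _ (mu J L)

theorem not_mem_support_cokernel {M N : X.Modules} (φ : M ⟶ N) {x : X} (h : Epi ((stalkF X x).map φ)) :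
    x ∉ CohB1.support (cokernel φ) := by
  rw [not_mem_support_iff_isZero]
  have h1 : (stalkF X x).map (cokernel.π φ) = 0 := by
    rw [← cancel_epi ((stalkF X x).map φ), ← Functor.map_comp, cokernel.condition, Functor.map_zero, comp_zero]
  rw [IsZero.iff_id_eq_zero, ← cancel_epi ((stalkF X x).map (cokernel.π φ)), h1, zero_comp, zero_comp]

theorem epi_of_not_mem_support_cokernel {M N : X.Modules} (φ : M ⟶ N) {x : X}
    (h : x ∉ CohB1.support (cokernel φ)) : Epi ((stalkF X x).map φ) := by
  rw [not_mem_support_iff_isZero] at h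
  have hex : ((ShortComplex.mk φ (cokernel.π φ) (cokernel.condition φ)).map (stalkF X x)).Exact :=
    (ShortComplex.exact_of_g_is_cokernel _ (cokernelIsCokernel φ)).map (stalkF X x)
  exact hex.epi_f (h.eq_of_tgt _ _)

/-- The cokernel of `I ⊗ L ⟶ L` is supported in the support of `I`. -/
theorem support_cokernel_mu_subset (I : X.IdealSheafData) {L : X.Modules} (hL : PicF.IsInvertible L) :
    CohB1.support (cokernel (mu I L)) ⊆ (I.support : Set X) := by
  intro x hx
  by_contra hxI
  apply hx
  let U : X.Opens := ⟨(I.support : Set X)ᶜ, I.support.isClosed.isOpen_compl⟩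
  have hz : ∀ (V : X.Opens), V ≤ U → ∀ l : Γ(L, V), (pr I L).app V l = 0 := by
    intro V hV l
    exact pr_eq_zero_of_disjoint I hL (fun y hy => hV hy) l
  have key : ∀ t : (cokernel (mu I L)).presheaf.stalk x, t = 0 := by
    intro t
    have hepi : Epi ((stalkF X x).map (pr I L)) := inferInstance
    have hsurj : Function.Surjective ((stalkF X x).map (pr I L)) :=
      (AddCommGrpCat.epi_iff_surjective _).mp hepi
    obtain ⟨l, rfl⟩ := hsurj t
    obtain ⟨W, hxW, s, rfl⟩ := TopCat.Presheaf.exists_germ_eq L.presheaf l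
    have hxV : x ∈ W ⊓ U := ⟨hxW, hxI⟩
    have h1 : L.presheaf.germ W x hxW s =
        L.presheaf.germ (W ⊓ U) x hxV (res L inf_le_left s) :=
      (TopCat.Presheaf.germ_res_apply L.presheaf (homOfLE inf_le_left) x hxV s).symm
    rw [h1]
    have h2 : ((stalkF X x).map (pr I L)) (L.presheaf.germ (W ⊓ U) x hxV (res L inf_le_left s)) =
        (cokernel (mu I L)).presheaf.germ (W ⊓ U) x hxV ((pr I L).app (W ⊓ U) (res L inf_le_left s)) :=
      TopCat.Presheaf.stalkFunctor_map_germ_apply (W ⊓ U) x hxV (pr I L).mapPresheaf _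
    rw [h2, hz (W ⊓ U) inf_le_right, map_zero]
  exact ⟨fun a b => (key a).trans (key b).symm⟩

/-- The cokernel of `I ⊗ L ⟶ J ⊗ L` is supported in the support of `I`. -/
theorem support_cokernel_twMap_subset {I J : X.IdealSheafData} (h : I ≤ J) {L : X.Modules}
    (hL : PicF.IsInvertible L) : CohB1.support (cokernel (twMap h L)) ⊆ (I.support : Set X) := by
  intro x hx
  by_contra hxI
  refine not_mem_support_cokernel (twMap h L) ?_ hx
  have h1 : Epi ((stalkF X x).map (mu I L)) :=
    epi_of_not_mem_support_cokernel _ fun hx' => hxI (support_cokernel_mu_subset I hL hx')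
  have hm : Mono (mu J L) := mono_mu J hL
  have h2 : Mono ((stalkF X x).map (mu J L)) := inferInstance
  rw [← twMap_mu h L, Functor.map_comp] at h1
  have h3 : Epi ((stalkF X x).map (mu J L)) := epi_of_epi ((stalkF X x).map (twMap h L)) _
  have h4 : IsIso ((stalkF X x).map (mu J L)) := isIso_of_mono_of_epi _
  have h5 : (stalkF X x).map (twMap h L) =
      ((stalkF X x).map (twMap h L) ≫ (stalkF X x).map (mu J L)) ≫ inv ((stalkF X x).map (mu J L)) := by
    rw [Category.assoc, IsIso.hom_inv_id, Category.comp_id]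
  rw [h5]
  infer_instance

theorem isCoh_tw [IsLocallyNoetherian X] (I : X.IdealSheafData) {L : X.Modules}
    (hL : PicF.IsInvertible L) : Coh.IsCoh (CohB1.tensorMod (ClSub.idealMod I) L) :=
  Fga.TwistCoh.isCoh_tensor (VarietyB.DegCartier.isCoh_idealMod I) hL

/-- the short complex `I ⊗ L → J ⊗ L → (J / I) ⊗ L`. -/
noncomputable def twSeq {I J : X.IdealSheafData} (h : I ≤ J) (L : X.Modules) : ShortComplex X.Modules :=
  ShortComplex.mk (twMap h L) (cokernel.π (twMap h L)) (cokernel.condition _)

theorem twSeq_shortExact {I J : X.IdealSheafData} (h : I ≤ J) {L : X.Modules}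
    (hL : PicF.IsInvertible L) : (twSeq h L).ShortExact := by
  have : Mono (twMap h L) := mono_twMap h hL
  have : Mono (twSeq h L).f := this
  have : Epi (twSeq h L).g := inferInstanceAs (Epi (cokernel.π (twMap h L)))
  refine ShortComplex.ShortExact.mk ?_
  exact ShortComplex.exact_of_g_is_cokernel _ (cokernelIsCokernel (twMap h L))

/-- The support of a positive power of the ideal of a closed point. -/
theorem support_pointIdeal_pow_subset (x : X) (hx : IsClosed ({x} : Set X)) (a : ℕ) :
    (((W4c2seshadripos.pointIdeal x hx) ^ a).support : Set X) ⊆ {x} := by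
  rcases Nat.eq_zero_or_pos a with rfl | ha
  · rw [pow_zero]
    intro y hy
    simp at hy
  · obtain ⟨b, rfl⟩ : ∃ b, a = b + 1 := ⟨a - 1, by omega⟩
    intro y hy
    have h0 : ((W4c2seshadripos.pointIdeal x hx) ^ (b + 1)).support =
        (W4c2seshadripos.pointIdeal x hx).support := rfl
    rw [h0] at hy
    have h1 : y ∈ ((Scheme.IdealSheafData.vanishingIdeal ⟨{x}, hx⟩).support : Set X) := hy
    rw [Scheme.IdealSheafData.coe_support_vanishingIdeal] at h1
    exact h1

end K850.IdealTwist
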