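import Groth.Prelude.Def_W4c2seshadriposJets
import Groth.Agent.Ega1.ClosedUnit
import Groth.Agent.Divis.CartierStalk
import Groth.Agent.CurvesB.HZero

/-!
# Separation of jets in terms of the stalk

* `resH_surjective_iff` : for an ideal sheaf `I` with support `{x}`, the map
  `H^0(X, F) → H^0(X, i_* i^* F)` is surjective iff every element of `F_x` is congruent to a global
  section modulo `I_x F_x`.
* `separatesJets_iff` : `F` separates `l`-jets at `x` iff every element of `F_x` is congruent to a
  global section modulo `m_x^(l+1) F_x`.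
-/

set_option autoImplicit false
universe u

open CategoryTheory CategoryTheory.Limits AlgebraicGeometry TopologicalSpace Opposite

namespace K850.JetStalk

open Groth.Agent Groth.Agent.Divis.CartierBasic Groth.Agent.Divis.CartierStalk

variable {X : Scheme.{u}}

theorem mem_vanishingIdeal_iff {C : Set X} (hC : IsClosed C) (U : X.affineOpens) (a : Γ(X, U.1)) :
    a ∈ (Scheme.IdealSheafData.vanishingIdeal ⟨C, hC⟩).ideal U ↔ ∀ x ∈ C, x ∉ X.basicOpen a := by
  constructor
  · intro ha x hx hxa
    have h1 : x ∈ (Scheme.IdealSheafData.vanishingIdeal (X := X) ⟨C, hC⟩).support :=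
      Scheme.IdealSheafData.le_support_iff_le_vanishingIdeal.mpr le_rfl hx
    have h2 := (Scheme.IdealSheafData.mem_support_iff_of_mem (U := U) (X.basicOpen_le a hxa)).mp h1
    rw [Scheme.mem_zeroLocus_iff] at h2
    exact h2 a ha hxa
  · intro h
    rw [Scheme.IdealSheafData.vanishingIdeal_ideal, PrimeSpectrum.mem_vanishingIdeal]
    intro p hp
    have h1 := h _ hp
    have h2 : p ∉ U.2.fromSpec ⁻¹ᵁ X.basicOpen a := h1
    rw [U.2.fromSpec_preimage_basicOpen] at h2
    exact not_not.mp h2

/-- The stalk of the ideal of a closed point is the maximal ideal. -/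
theorem stalkIdeal_pointIdeal (x : X) (hx : IsClosed ({x} : Set X)) :
    stalkIdeal (W4c2seshadripos.pointIdeal x hx) x =
      IsLocalRing.maximalIdeal (X.presheaf.stalk x) := by
  obtain ⟨⟨U, hU⟩, hxU⟩ := exists_affine x
  rw [stalkIdeal_eq _ ⟨U, hU⟩ hxU]
  have h1 : (W4c2seshadripos.pointIdeal x hx).ideal ⟨U, hU⟩ =
      (IsLocalRing.maximalIdeal (X.presheaf.stalk x)).comap (X.presheaf.germ U x hxU).hom := by
    ext a
    rw [W4c2seshadripos.pointIdeal, mem_vanishingIdeal_iff, Ideal.mem_comap,
      IsLocalRing.mem_maximalIdeal, mem_nonunits_iff]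
    constructor
    · intro h hu
      exact h x rfl ((X.mem_basicOpen a x hxU).mpr hu)
    · rintro h _ rfl hb
      exact h ((X.mem_basicOpen a _ hxU).mp hb)
  rw [h1]
  let := X.presheaf.algebra_section_stalk (⟨x, hxU⟩ : U)
  have hloc : IsLocalization.AtPrime (X.presheaf.stalk x) (hU.primeIdealOf ⟨x, hxU⟩).asIdeal :=
    hU.isLocalization_stalk ⟨x, hxU⟩
  exact IsLocalization.map_under (hU.primeIdealOf ⟨x, hxU⟩).asIdeal.primeCompl
    (X.presheaf.stalk x) _

theorem stalkIdeal_pointIdeal_pow (x : X) (hx : IsClosed ({x} : Set X)) (n : ℕ) :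
    stalkIdeal ((W4c2seshadripos.pointIdeal x hx) ^ n) x =
      IsLocalRing.maximalIdeal (X.presheaf.stalk x) ^ n := by
  rw [stalkIdeal_pow, stalkIdeal_pointIdeal]

/-- On a one point scheme global sections of a module are its stalk. -/
theorem germ_bijective_of_subsingleton {Z : Scheme.{u}} [Subsingleton Z] (M : Z.Modules) (z : Z) :
    Function.Bijective (M.presheaf.germ ⊤ z trivial) := by
  have htop : ∀ (W : Z.Opens), z ∈ W → W = ⊤ := by
    intro W hW
    rw [eq_top_iff]
    intro y _
    rwa [Subsingleton.elim y z]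
  constructor
  · rw [injective_iff_map_eq_zero]
    intro s hs
    obtain ⟨W, hW, i, e⟩ := Ega1.ModGerm.germ_eq_zero M (U := ⊤) trivial s hs
    obtain rfl := htop W hW
    have h1 : (homOfLE i).op = 𝟙 (op (⊤ : Z.Opens)) := Subsingleton.elim _ _
    rw [h1, M.presheaf.map_id] at e
    exact e
  · intro t
    obtain ⟨W, hW, s, rfl⟩ := TopCat.Presheaf.exists_germ_eq M.presheaf t
    obtain rfl := htop W hW
    exact ⟨s, rfl⟩

section

variable {Z : Scheme.{u}} (i : Z ⟶ X)

/-- The kernel of `M_{i z} → (i^* M)_z` is contained in `J M_{i z}`, `J` the kernel of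
`O_{X, i z} → O_{Z, z}`. -/
theorem mem_smul_of_canAdd_eq_zero (M : X.Modules) (z : Z) (hs : Function.Surjective (i.stalkMap z))
    (t : M.presheaf.stalk (i z)) (ht : Fdesc.PullbackStalk.canAdd i M z t = 0) :
    t ∈ (RingHom.ker (i.stalkMap z).hom) • (⊤ : Submodule (X.presheaf.stalk (i z))
      (M.presheaf.stalk (i z))) := by
  set J := RingHom.ker (i.stalkMap z).hom with hJ
  let P : Submodule (X.presheaf.stalk (i z)) (M.presheaf.stalk (i z)) := J • ⊤
  have hk' : ∀ a b : X.presheaf.stalk (i z), i.stalkMap z a = i.stalkMap z b →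
      ∀ t : M.presheaf.stalk (i z) ⧸ P, a • t = b • t := by
    intro a b hab t
    obtain ⟨t, rfl⟩ := Submodule.Quotient.mk_surjective _ t
    rw [← sub_eq_zero, ← sub_smul, ← Submodule.Quotient.mk_smul, Submodule.Quotient.mk_eq_zero]
    refine Submodule.smul_mem_smul ?_ trivial
    rw [hJ, RingHom.mem_ker, map_sub, sub_eq_zero]
    exact hab
  let _ : SMul (Z.presheaf.stalk z) (M.presheaf.stalk (i z) ⧸ P) :=
    ⟨fun r t => Function.surjInv hs r • t⟩
  have hsm : ∀ (a : X.presheaf.stalk (i z)) (t : M.presheaf.stalk (i z) ⧸ P),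
      (i.stalkMap z).hom a • t = a • t := by
    intro a t
    exact hk' _ _ (Function.surjInv_eq hs _) t
  let _ : Module (Z.presheaf.stalk z) (M.presheaf.stalk (i z) ⧸ P) :=
    Function.Surjective.moduleLeft (i.stalkMap z).hom hs hsm
  have h := congrArg (Fdesc.PullbackStalk.lift i (Q := M.presheaf.stalk (i z) ⧸ P) (M := M)
    P.mkQ.toAddMonoidHom (fun r t => (P.mkQ.map_smul r t).trans (hsm r _).symm)) ht
  have h0 := Fdesc.PullbackStalk.lift_canAdd i (Q := M.presheaf.stalk (i z) ⧸ P) (M := M)
    P.mkQ.toAddMonoidHom (fun r t => (P.mkQ.map_smul r t).trans (hsm r _).symm) t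
  exact (Submodule.Quotient.mk_eq_zero P).1 (h0.symm.trans (h.trans (map_zero _)))

theorem canAdd_eq_zero_of_mem (M : X.Modules) (z : Z) (t : M.presheaf.stalk (i z))
    (ht : t ∈ (RingHom.ker (i.stalkMap z).hom) • (⊤ : Submodule (X.presheaf.stalk (i z))
      (M.presheaf.stalk (i z)))) : Fdesc.PullbackStalk.canAdd i M z t = 0 := by
  refine Submodule.smul_induction_on ht (fun r hr n _ => ?_) fun x y hx hy => ?_
  · rw [Fdesc.PullbackStalk.canAdd_smul]
    have hr' : i.stalkMap z r = 0 := hr
    rw [hr', zero_smul]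
  · rw [map_add, hx, hy, add_zero]

end

/-- For an ideal sheaf `I` with support a point `x`: the restriction map on `H^0` is surjective iff
every element of the stalk is congruent to a global section modulo `I_x F_x`. -/
theorem resH_surjective_iff (I : X.IdealSheafData) (x : X) (hI : (I.support : Set X) = {x})
    (F : X.Modules) :
    Function.Surjective (W4c2seshadripos.resH I F) ↔
      ∀ t : F.presheaf.stalk x, ∃ s : Γ(F, ⊤),
        t - F.presheaf.germ ⊤ x trivial s ∈
          stalkIdeal I x • (⊤ : Submodule (X.presheaf.stalk x) (F.presheaf.stalk x)) := by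
  have hr : Set.range I.subschemeι = {x} := by rw [Scheme.IdealSheafData.range_subschemeι, hI]
  obtain ⟨d, rfl⟩ : ∃ d, I.subschemeι d = x := by
    have : x ∈ Set.range I.subschemeι := by rw [hr]; rfl
    exact this
  have hsub : Subsingleton I.subscheme := by
    refine ⟨fun a b => ?_⟩
    have ha : I.subschemeι a ∈ Set.range I.subschemeι := ⟨a, rfl⟩
    have hb : I.subschemeι b ∈ Set.range I.subschemeι := ⟨b, rfl⟩
    rw [hr] at ha hb
    exact I.subschemeι.isClosedEmbedding.injective (ha.trans hb.symm)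
  let U := (Scheme.Modules.pullbackPushforwardAdjunction I.subschemeι).unit.app F
  have h1 : Function.Surjective (W4c2seshadripos.resH I F) ↔ Function.Surjective (U.app ⊤) := by
    have h2 : ∀ y, CurvesB.HZero.equivAdd _ (W4c2seshadripos.resH I F y) =
        U.app ⊤ (CurvesB.HZero.equivAdd F y) := fun y => CurvesB.HZero.equivAdd_map U y
    constructor
    · intro h z
      obtain ⟨y, hy⟩ := h ((CurvesB.HZero.equivAdd _).symm z)
      refine ⟨CurvesB.HZero.equivAdd F y, ?_⟩
      rw [← h2, hy, AddEquiv.apply_symm_apply]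
    · intro h z
      obtain ⟨s, hs⟩ := h (CurvesB.HZero.equivAdd _ z)
      refine ⟨(CurvesB.HZero.equivAdd F).symm s, ?_⟩
      apply (CurvesB.HZero.equivAdd _).injective
      rw [h2, AddEquiv.apply_symm_apply, hs]
      rfl
  have hsu := stalkMap_subschemeι_surjective I d
  have hker := ker_stalkMap_subschemeι I d
  rw [h1, ← hker]
  have hb := germ_bijective_of_subsingleton ((Scheme.Modules.pullback I.subschemeι).obj F) d
  have hcan : ∀ s : Γ(F, ⊤), Fdesc.PullbackStalk.canAdd I.subschemeι F d
      (F.presheaf.germ ⊤ _ trivial s) =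
      ((Scheme.Modules.pullback I.subschemeι).obj F).presheaf.germ ⊤ d trivial (U.app ⊤ s) :=
    fun s => Fdesc.PullbackStalk.canAdd_germ I.subschemeι F d ⊤ trivial s
  constructor
  · intro h t
    obtain ⟨u, hu⟩ := hb.2 (Fdesc.PullbackStalk.canAdd I.subschemeι F d t)
    obtain ⟨s, hs⟩ := h u
    refine ⟨s, mem_smul_of_canAdd_eq_zero I.subschemeι F d hsu _ ?_⟩
    rw [map_sub, hcan, hs, sub_eq_zero]
    exact hu.symm
  · intro h u
    obtain ⟨t, ht⟩ := Ega1.ClosedUnit.canAdd_surjective I.subschemeι F d hsu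
      (((Scheme.Modules.pullback I.subschemeι).obj F).presheaf.germ ⊤ d trivial u)
    obtain ⟨s, hs⟩ := h t
    refine ⟨s, hb.1 ?_⟩
    have h3 := canAdd_eq_zero_of_mem I.subschemeι F d _ hs
    rw [map_sub, sub_eq_zero, hcan] at h3
    rw [← ht]
    exact h3.symm

/-- `F` separates `l`-jets at `x` iff every element of `F_x` is congruent to a global section modulo
`m_x^(l+1) F_x`. -/
theorem separatesJets_iff (F : X.Modules) (x : X) (hx : IsClosed ({x} : Set X)) (l : ℕ) :
    W4c2seshadripos.SeparatesJets F x hx l ↔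
      ∀ t : F.presheaf.stalk x, ∃ s : Γ(F, ⊤),
        t - F.presheaf.germ ⊤ x trivial s ∈
          (IsLocalRing.maximalIdeal (X.presheaf.stalk x) ^ (l + 1)) •
            (⊤ : Submodule (X.presheaf.stalk x) (F.presheaf.stalk x)) := by
  have hI : ((((W4c2seshadripos.pointIdeal x hx) ^ (l + 1)).support : Set X)) = {x} := by
    have h0 : ((W4c2seshadripos.pointIdeal x hx) ^ (l + 1)).support =
        (W4c2seshadripos.pointIdeal x hx).support := rfl
    rw [h0]
    exact Scheme.IdealSheafData.coe_support_vanishingIdeal _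
  rw [W4c2seshadripos.SeparatesJets, resH_surjective_iff _ x hI, stalkIdeal_pointIdeal_pow]

end K850.JetStalk
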