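import Groth.Agent.W4c2seshadripos.K850.JetStalk
import Groth.Agent.Dcoh.ClosedProj

/-!
# Separation of jets by a tensor product
-/

set_option autoImplicit false
universe u

open CategoryTheory CategoryTheory.Limits AlgebraicGeometry TopologicalSpace Opposite
open scoped TensorProduct

namespace K850.JetTensor

section alg

variable {A : Type*} [CommRing A] (m : Ideal A) {M N : Type*} [AddCommGroup M] [AddCommGroup N]
  [Module A M] [Module A N]

theorem tmul_mem_left (a : ℕ) {f : M} (hf : f ∈ (m ^ a) • (⊤ : Submodule A M)) (g : N) :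
    f ⊗ₜ[A] g ∈ (m ^ a) • (⊤ : Submodule A (M ⊗[A] N)) := by
  refine Submodule.smul_induction_on hf (fun r hr n _ => ?_) fun x y hx hy => ?_
  · rw [← TensorProduct.smul_tmul']
    exact Submodule.smul_mem_smul hr trivial
  · rw [TensorProduct.add_tmul]
    exact add_mem hx hy

theorem tmul_mem (a b : ℕ) {f : M} {g : N} (hf : f ∈ (m ^ a) • (⊤ : Submodule A M))
    (hg : g ∈ (m ^ b) • (⊤ : Submodule A N)) :
    f ⊗ₜ[A] g ∈ (m ^ (a + b)) • (⊤ : Submodule A (M ⊗[A] N)) := by
  refine Submodule.smul_induction_on hg (fun r hr n _ => ?_) fun x y hx hy => ?_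
  · rw [TensorProduct.tmul_smul, pow_add, mul_comm, mul_smul]
    exact Submodule.smul_mem_smul hr (tmul_mem_left m a hf n)
  · rw [TensorProduct.tmul_add]
    exact add_mem hx hy

theorem exists_add_eq {c i j : ℕ} (h : c ≤ i + j) : ∃ a b, a ≤ i ∧ b ≤ j ∧ c = a + b := by
  rcases Nat.le_total c i with h1 | h1
  · exact ⟨c, 0, h1, Nat.zero_le _, rfl⟩
  · exact ⟨i, c - i, le_rfl, by omega, by omega⟩

/-- approximation of all tensors by a subgroup containing the products of two subgroups. -/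
theorem exists_approx (i j : ℕ) (MS : AddSubgroup M) (NS : AddSubgroup N)
    (PS : AddSubgroup (M ⊗[A] N)) (hP : ∀ s ∈ MS, ∀ t ∈ NS, s ⊗ₜ[A] t ∈ PS)
    (hM : ∀ f : M, ∃ s ∈ MS, f - s ∈ (m ^ (i + 1)) • (⊤ : Submodule A M))
    (hN : ∀ g : N, ∃ t ∈ NS, g - t ∈ (m ^ (j + 1)) • (⊤ : Submodule A N)) (c : ℕ)
    (hc : c ≤ i + j + 1) (p : M ⊗[A] N) :
    ∃ s ∈ PS, p - s ∈ (m ^ c) • (⊤ : Submodule A (M ⊗[A] N)) := by
  induction c generalizing p with
  | zero => exact ⟨0, zero_mem _, by simp⟩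
  | succ c ih =>
    obtain ⟨s₀, hs₀, h₀⟩ := ih (by omega) p
    obtain ⟨a, b, ha, hb, rfl⟩ := exists_add_eq (show c ≤ i + j by omega)
    -- the statement for elements of `m^c P`
    let W : AddSubgroup (M ⊗[A] N) :=
      PS ⊔ ((m ^ (a + b + 1)) • (⊤ : Submodule A (M ⊗[A] N))).toAddSubgroup
    have hkey : ∀ q ∈ (m ^ (a + b)) • (⊤ : Submodule A (M ⊗[A] N)), q ∈ W := by
      intro q hq
      refine Submodule.smul_induction_on hq (fun r hr n hn => ?_) fun x y hx hy => add_mem hx hy
      clear hn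
      rw [pow_add] at hr
      refine Submodule.mul_induction_on hr (fun α hα β hβ => ?_) fun x y hx hy => ?_
      · induction n with
        | zero => rw [smul_zero]; exact zero_mem _
        | add x y hx hy => rw [smul_add]; exact add_mem hx hy
        | tmul f g =>
          obtain ⟨s, hs, h1⟩ := hM (α • f)
          obtain ⟨t, ht, h2⟩ := hN (β • g)
          have e1 : (α * β) • (f ⊗ₜ[A] g) = (α • f) ⊗ₜ[A] (β • g) := by
            rw [TensorProduct.smul_tmul_smul]
          have hαf : α • f ∈ (m ^ a) • (⊤ : Submodule A M) := Submodule.smul_mem_smul hα trivial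
          have hβg : β • g ∈ (m ^ b) • (⊤ : Submodule A N) := Submodule.smul_mem_smul hβ trivial
          have e2 : (α • f) ⊗ₜ[A] (β • g) = s ⊗ₜ[A] t + ((α • f) ⊗ₜ[A] (β • g - t) +
              (α • f - s) ⊗ₜ[A] (β • g) - (α • f - s) ⊗ₜ[A] (β • g - t)) := by
            simp only [TensorProduct.sub_tmul, TensorProduct.tmul_sub]
            abel
          rw [e1, e2]
          have hle : ∀ d, a + b + 1 ≤ d → (m ^ d) • (⊤ : Submodule A (M ⊗[A] N)) ≤
              (m ^ (a + b + 1)) • ⊤ := fun d hd =>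
            Submodule.smul_mono_left (Ideal.pow_le_pow_right hd)
          refine add_mem (AddSubgroup.mem_sup_left (hP s hs t ht))
            (AddSubgroup.mem_sup_right ?_)
          refine sub_mem (add_mem ?_ ?_) ?_
          · exact hle _ (by omega) (tmul_mem m a (j + 1) hαf h2)
          · exact hle _ (by omega) (tmul_mem m (i + 1) b h1 hβg)
          · exact hle _ (by omega) (tmul_mem m (i + 1) (j + 1) h1 h2)
      · rw [add_smul]
        exact add_mem hx hy
    obtain ⟨s₁, hs₁, r, hr, h1⟩ := AddSubgroup.mem_sup.mp (hkey _ h₀)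
    refine ⟨s₀ + s₁, add_mem hs₀ hs₁, ?_⟩
    have : p - (s₀ + s₁) = r := by
      rw [← sub_sub, ← h1]
      abel
    rw [this]
    exact hr

end alg

open K850.JetStalk Groth.Agent Groth.Agent.Fdesc.AssFlat Groth.Agent.Ega2.Tens

variable {X : Scheme.{u}}

/-- germs of global sections -/
noncomputable def globGerms (F : X.Modules) (x : X) : AddSubgroup (F.presheaf.stalk x) :=
  AddMonoidHom.range (F.presheaf.germ ⊤ x trivial).hom

theorem separatesJets_tensorMod (F G : X.Modules) (x : X) (hx : IsClosed ({x} : Set X)) (i j : ℕ)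
    (hi : W4c2seshadripos.SeparatesJets F x hx i) (hj : W4c2seshadripos.SeparatesJets G x hx j) :
    W4c2seshadripos.SeparatesJets (CohB1.tensorMod F G) x hx (i + j) := by
  rw [separatesJets_iff] at hi hj ⊢
  intro t
  let E := tensorModStalk F G x
  let PS : AddSubgroup (F.presheaf.stalk x ⊗[X.presheaf.stalk x] G.presheaf.stalk x) :=
    (globGerms (CohB1.tensorMod F G) x).map E.toLinearMap.toAddMonoidHom
  have hP : ∀ s ∈ globGerms F x, ∀ t ∈ globGerms G x, s ⊗ₜ[X.presheaf.stalk x] t ∈ PS := by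
    rintro _ ⟨s, rfl⟩ _ ⟨t, rfl⟩
    refine ⟨(CohB1.tensorMod F G).presheaf.germ ⊤ x trivial (tmul s t), ⟨_, rfl⟩, ?_⟩
    exact Dcoh.ClosedProj.tensorModStalk_germ F G x ⊤ trivial s t
  obtain ⟨_, ⟨_, ⟨s, rfl⟩, rfl⟩, hs⟩ := exists_approx
    (IsLocalRing.maximalIdeal (X.presheaf.stalk x)) i j (globGerms F x) (globGerms G x) PS hP
    (fun f => by
      obtain ⟨s, hs⟩ := hi f
      exact ⟨_, ⟨s, rfl⟩, hs⟩)
    (fun g => by
      obtain ⟨s, hs⟩ := hj g
      exact ⟨_, ⟨s, rfl⟩, hs⟩) (i + j + 1) le_rfl (E t)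
  · refine ⟨s, ?_⟩
    have h1 := Submodule.mem_map_of_mem (f := E.symm.toLinearMap) hs
    rw [Submodule.map_smul''] at h1
    have h2 : E.symm.toLinearMap (E t - E.toLinearMap.toAddMonoidHom
        (((CohB1.tensorMod F G).presheaf.germ ⊤ x trivial).hom s)) =
        t - (CohB1.tensorMod F G).presheaf.germ ⊤ x trivial s := by
      rw [map_sub]
      exact congrArg₂ _ (E.symm_apply_apply t) (E.symm_apply_apply _)
    rw [h2] at h1
    exact Submodule.smul_mono le_rfl le_top h1

end K850.JetTensor
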