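import Groth.Agent.W4c2seshadripos.K850.IdealTwist
import Groth.Agent.CycB.CohProp
import Groth.Agent.PerfA.CohSerre
import Groth.Agent.Fdesc.StructMod
import Groth.Agent.S0047

/-!
# Vanishing of cohomology for the cokernels of twisted ideal inclusions supported at a point
-/

set_option autoImplicit false
universe u
open CategoryTheory CategoryTheory.Limits AlgebraicGeometry Opposite TopologicalSpace

namespace K850.PointVanish

open Groth.Agent Groth.Agent.Ega2 Groth.Agent.CurvesB.SepLift K850.IdealTwist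
open Groth.Agent.Fdesc.LocGen (isInvertible_tensorPow)

variable {X : Scheme.{u}}

theorem isCoh_of_isInvertible {L : X.Modules} (hL : PicF.IsInvertible L) : Coh.IsCoh L :=
  PerfA.CohSerre.isCoh_of_iso (Tens.lunit L)
    (Fga.TwistCoh.isCoh_tensor (Fdesc.StructMod.isCoh_structureModule X) hL)

theorem subsingleton_of_support_subset_singleton [IsLocallyNoetherian X] {M : X.Modules}
    (hM : Coh.IsCoh M) {x : X} (hx : IsClosed ({x} : Set X)) (hs : CohB1.support M ⊆ {x})
    (i : ℕ) (hi : 0 < i) : Subsingleton (Coh.HH X M i) :=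
  S0047.result X M hM (fun y hy => by rw [hs hy]; exact hx) i hi

/-- `H^i(coker (I ⊗ L → L)) = 0`, `i > 0`, for `I` supported at a closed point. -/
theorem subsingleton_cokernel_mu [IsLocallyNoetherian X] (I : X.IdealSheafData) {x : X}
    (hx : IsClosed ({x} : Set X)) (hI : (I.support : Set X) ⊆ {x}) {L : X.Modules}
    (hL : PicF.IsInvertible L) (i : ℕ) (hi : 0 < i) :
    Subsingleton (Coh.HH X (cokernel (mu I L)) i) :=
  subsingleton_of_support_subset_singleton
    (CycB.CohProp.isCoh_cokernel _ (isCoh_tw I hL) (isCoh_of_isInvertible hL)) hx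
    ((support_cokernel_mu_subset I hL).trans hI) i hi

/-- `H^i(coker (I ⊗ L → J ⊗ L)) = 0`, `i > 0`, for `I` supported at a closed point. -/
theorem subsingleton_cokernel_twMap [IsLocallyNoetherian X] {I J : X.IdealSheafData} (h : I ≤ J)
    {x : X} (hx : IsClosed ({x} : Set X)) (hI : (I.support : Set X) ⊆ {x}) {L : X.Modules}
    (hL : PicF.IsInvertible L) (i : ℕ) (hi : 0 < i) :
    Subsingleton (Coh.HH X (cokernel (twMap h L)) i) :=
  subsingleton_of_support_subset_singleton
    (CycB.CohProp.isCoh_cokernel _ (isCoh_tw I hL) (isCoh_tw J hL)) hx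
    ((support_cokernel_twMap_subset h hL).trans hI) i hi

/-- `H^i(I ⊗ L) = 0` if `H^i(L) = 0`, `i > 1`, for `I` supported at a closed point. -/
theorem subsingleton_tw [IsLocallyNoetherian X] (I : X.IdealSheafData) {x : X}
    (hx : IsClosed ({x} : Set X)) (hI : (I.support : Set X) ⊆ {x}) {L : X.Modules}
    (hL : PicF.IsInvertible L) (i : ℕ) (hi : 1 < i) (h : Subsingleton (Coh.HH X L i)) :
    Subsingleton (Coh.HH X (CohB1.tensorMod (ClSub.idealMod I) L) i) := by
  obtain ⟨j, rfl⟩ : ∃ j, i = j + 1 := ⟨i - 1, by omega⟩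
  have h1 : Subsingleton (Coh.HH X (cokernel (mu I L)) j) :=
    subsingleton_cokernel_mu I hx hI hL j (by omega)
  have key : ∀ t : Coh.HH X (CohB1.tensorMod (ClSub.idealMod I) L) (j + 1), t = 0 := by
    intro t
    obtain ⟨y, rfl⟩ := CohqB.HSeqMod.exact₁ (sc_shortExact I hL) j t (Subsingleton.elim (α :=
      Coh.HH X L (j + 1)) _ _)
    have : y = 0 := Subsingleton.elim (α := Coh.HH X (cokernel (mu I L)) j) _ _
    rw [this, map_zero]
    rfl
  exact ⟨fun a b => (key a).trans (key b).symm⟩

/-- `H^1(I ⊗ L) → H^1(J ⊗ L)` is surjective for `I ≤ J`, `I` supported at a closed point. -/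
theorem surjective_hmap_twMap [IsLocallyNoetherian X] {I J : X.IdealSheafData} (h : I ≤ J)
    {x : X} (hx : IsClosed ({x} : Set X)) (hI : (I.support : Set X) ⊆ {x}) {L : X.Modules}
    (hL : PicF.IsInvertible L) (i : ℕ) (hi : 0 < i) :
    Function.Surjective (CohqB.HSeqMod.hmap (twMap h L) i) := by
  intro t
  have h1 := subsingleton_cokernel_twMap h hx hI hL i hi
  exact CohqB.HSeqMod.exact₂ (twSeq_shortExact h hL) i t (Subsingleton.elim (α :=
      Coh.HH X (cokernel (twMap h L)) i) _ _)

end K850.PointVanish
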