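import Groth.Agent.W4c2seshadripos.K850.TensExt
import Groth.Agent.W4c2seshadripos.K850.JetStalk
import Groth.Agent.VarietyB.FlatH0

/-!
# Separation of jets and base change to a field extension
-/

set_option autoImplicit false
universe u

open CategoryTheory CategoryTheory.Limits AlgebraicGeometry TopologicalSpace Opposite

namespace K850.JetBC

open K850.FieldBC K850.TensExt Groth.Agent

variable {k : Type u} [Field k] {X : Scheme.{u}} [X.Over (Spec (CommRingCat.of k))]
  {K : Type u} [Field K] [Algebra k K] {X' : Scheme.{u}} [X'.Over (Spec (CommRingCat.of K))]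
  {p : X' ⟶ X}

/-- `F_{x}` is congruent to global sections modulo `m^N`. -/
def Sep (F : X.Modules) (x : X) (N : ℕ) : Prop :=
  ∀ t : F.presheaf.stalk x, ∃ s : Γ(F, ⊤), t - F.presheaf.germ ⊤ x trivial s ∈
    (IsLocalRing.maximalIdeal (X.presheaf.stalk x) ^ N) •
      (⊤ : Submodule (X.presheaf.stalk x) (F.presheaf.stalk x))

theorem canAdd_mem (F : X.Modules) (x' : X') (j : ℕ) (t : F.presheaf.stalk (p x'))
    (ht : t ∈ (IsLocalRing.maximalIdeal (X.presheaf.stalk (p x')) ^ j) •
      (⊤ : Submodule (X.presheaf.stalk (p x')) (F.presheaf.stalk (p x')))) :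
    Fdesc.PullbackStalk.canAdd p F x' t ∈
      (IsLocalRing.maximalIdeal (X'.presheaf.stalk x') ^ j) •
        (⊤ : Submodule (X'.presheaf.stalk x')
          (((Scheme.Modules.pullback p).obj F).presheaf.stalk x')) := by
  have hl : IsLocalHom (p.stalkMap x').hom := inferInstance
  have hle : (IsLocalRing.maximalIdeal (X.presheaf.stalk (p x'))).map (p.stalkMap x').hom ≤
      IsLocalRing.maximalIdeal (X'.presheaf.stalk x') :=
    ((IsLocalRing.local_hom_TFAE (p.stalkMap x').hom).out 0 2).mp hl
  refine Submodule.smul_induction_on ht (fun r hr n _ => ?_) fun x y hx hy => ?_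
  · rw [Fdesc.PullbackStalk.canAdd_smul]
    refine Submodule.smul_mem_smul ?_ trivial
    have h1 : (p.stalkMap x').hom r ∈
        ((IsLocalRing.maximalIdeal (X.presheaf.stalk (p x')) ^ j)).map (p.stalkMap x').hom :=
      Ideal.mem_map_of_mem _ hr
    rw [Ideal.map_pow] at h1
    exact Ideal.pow_right_mono hle j h1
  · rw [map_add]
    exact add_mem hx hy

/-- global constants act through the constants of the local ring -/
theorem const_smul_germ (F : X.Modules) (x : X) (c : k) (s : Γ(F, ⊤)) :
    Curv2.stalkMap k X x c • F.presheaf.germ ⊤ x trivial s =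
      F.presheaf.germ ⊤ x trivial ((CurvesB.HZero.gl k X c) • s) :=
  (Fdesc.Skyscraper.germ_smul F x ⊤ trivial (CurvesB.HZero.gl k X c) s).symm

variable (hpb : IsPullback p (X' ↘ Spec (CommRingCat.of K)) (X ↘ Spec (CommRingCat.of k))
      (Spec.map (CommRingCat.ofHom (algebraMap k K))))

include hpb

theorem pow_smul_top_eq (F : X.Modules) (x' : X')
    (hrat : Function.Surjective (Curv2.resMap k X (p x'))) (j : ℕ) :
    (IsLocalRing.maximalIdeal (X'.presheaf.stalk x') ^ j) •
        (⊤ : Submodule (X'.presheaf.stalk x')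
          (((Scheme.Modules.pullback p).obj F).presheaf.stalk x')) ≤
      Submodule.span (X'.presheaf.stalk x')
        {z | ∃ a ∈ IsLocalRing.maximalIdeal (X.presheaf.stalk (p x')) ^ j,
          ∃ t : F.presheaf.stalk (p x'), z = Fdesc.PullbackStalk.canAdd p F x' (a • t)} := by
  rw [maximalIdeal_eq_map hpb x' hrat, ← Ideal.map_pow, ← Fdesc.PullbackStalk.span_range_canAdd,
    Ideal.map, Submodule.span_smul_span]
  apply Submodule.span_mono
  intro z hz
  obtain ⟨_, ⟨a, ha, rfl⟩, _, ⟨t, rfl⟩, rfl⟩ := hz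
  exact ⟨a, ha, t, (Fdesc.PullbackStalk.canAdd_smul p F x' a t).symm⟩

theorem sep_pullback (F : X.Modules) (x' : X')
    (hrat : Function.Surjective (Curv2.resMap k X (p x'))) (N : ℕ) (h : Sep F (p x') N) :
    Sep ((Scheme.Modules.pullback p).obj F) x' N := by
  let F' := (Scheme.Modules.pullback p).obj F
  let B := X'.presheaf.stalk x'
  let n := IsLocalRing.maximalIdeal B
  let W : AddSubgroup (F'.presheaf.stalk x') :=
    (AddMonoidHom.range (F'.presheaf.germ ⊤ x' trivial).hom) ⊔
      ((n ^ N) • (⊤ : Submodule B (F'.presheaf.stalk x'))).toAddSubgroup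
  have hW : ∀ t, t ∈ W ↔ ∃ s : Γ(F', ⊤), t - F'.presheaf.germ ⊤ x' trivial s ∈
      (n ^ N) • (⊤ : Submodule B (F'.presheaf.stalk x')) := by
    intro t
    rw [AddSubgroup.mem_sup]
    constructor
    · rintro ⟨_, ⟨s, rfl⟩, r, hr, rfl⟩
      refine ⟨s, ?_⟩
      have : ((F'.presheaf.germ ⊤ x' trivial).hom s + r) - F'.presheaf.germ ⊤ x' trivial s = r :=
        add_sub_cancel_left _ _
      rw [this]
      exact hr
    · rintro ⟨s, hs⟩
      exact ⟨_, ⟨s, rfl⟩, _, hs, add_sub_cancel _ _⟩
  have hconst : ∀ (c : K) t, t ∈ W → Curv2.stalkMap K X' x' c • t ∈ W := by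
    intro c t ht
    rw [hW] at ht ⊢
    obtain ⟨s, hs⟩ := ht
    refine ⟨(CurvesB.HZero.gl K X' c) • s, ?_⟩
    rw [← const_smul_germ, ← smul_sub]
    exact Submodule.smul_mem _ _ hs
  have hcan : ∀ t : F.presheaf.stalk (p x'), Fdesc.PullbackStalk.canAdd p F x' t ∈ W := by
    intro t
    obtain ⟨s, hs⟩ := h t
    have h1 := canAdd_mem F x' N _ hs
    rw [map_sub] at h1
    have h2 := Fdesc.PullbackStalk.canAdd_germ p F x' ⊤ trivial s
    rw [hW]
    refine ⟨((Scheme.Modules.pullbackPushforwardAdjunction p).unit.app F).app ⊤ s, ?_⟩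
    rw [h2] at h1
    exact h1
  have key : ∀ i : ℕ, ∀ t ∈ (n ^ (N - i)) • (⊤ : Submodule B (F'.presheaf.stalk x')), t ∈ W := by
    intro i
    induction i with
    | zero => intro t ht; exact AddSubgroup.mem_sup_right ht
    | succ i ih =>
      intro t ht
      rcases Nat.lt_or_ge i N with hi | hi
      · have hN : N - i = (N - (i + 1)) + 1 := by omega
        rw [hN] at ih
        have h1 := pow_smul_top_eq hpb F x' hrat _ ht
        refine Submodule.closure_induction (p := fun t _ => t ∈ W) (zero_mem _)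
          (fun x y _ _ hx hy => add_mem hx hy) ?_ h1
        rintro b _ ⟨a, ha, t, rfl⟩
        obtain ⟨c, hc⟩ := exists_const_add hpb x' hrat b
        rw [← maximalIdeal_eq_map hpb x' hrat] at hc
        have h2 : b • Fdesc.PullbackStalk.canAdd p F x' (a • t) =
            Curv2.stalkMap K X' x' c • Fdesc.PullbackStalk.canAdd p F x' (a • t) +
            (b - Curv2.stalkMap K X' x' c) • Fdesc.PullbackStalk.canAdd p F x' (a • t) := by
          rw [← add_smul, add_sub_cancel]
        rw [h2]
        refine add_mem (hconst _ _ (hcan _)) (ih _ ?_)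
        have h3 := canAdd_mem F x' (N - (i + 1)) (a • t) (Submodule.smul_mem_smul ha trivial)
        rw [pow_succ', Submodule.mul_smul]
        exact Submodule.smul_mem_smul hc h3
      · have hN : N - (i + 1) = N - i := by omega
        rw [hN] at ht
        exact ih t ht
  intro t
  rw [← hW]
  refine key N t ?_
  rw [Nat.sub_self, pow_zero, Ideal.one_eq_top, Submodule.top_smul]
  trivial

theorem sep_of_pullback [CompactSpace X] [QuasiSeparatedSpace X] (F : X.Modules)
    (hF : Coh.IsQCoh F) (x' : X')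
    (hrat : Function.Surjective (Curv2.resMap k X (p x'))) (N : ℕ) (hN : N ≠ 0)
    (h : Sep ((Scheme.Modules.pullback p).obj F) x' N) : Sep F (p x') N := by
  let A := X.presheaf.stalk (p x')
  let M := F.presheaf.stalk (p x')
  let F' := (Scheme.Modules.pullback p).obj F
  let B := X'.presheaf.stalk x'
  let n := IsLocalRing.maximalIdeal B
  let _ : Algebra k A := Curv2.stalkAlgebra k X (p x')
  let _ : Module k M := Module.compHom M (Curv2.stalkMap k X (p x'))
  have hst : IsScalarTower k A M := ⟨fun a b c => by rw [Algebra.smul_def, mul_smul]; rfl⟩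
  -- the subspace of germs of global sections plus `m^N M`
  let V : Submodule k M :=
    { carrier := {t | ∃ s : Γ(F, ⊤), t = F.presheaf.germ ⊤ (p x') trivial s}
      add_mem' := by
        rintro _ _ ⟨s, rfl⟩ ⟨s', rfl⟩
        exact ⟨s + s', (map_add _ _ _).symm⟩
      zero_mem' := ⟨0, (map_zero _).symm⟩
      smul_mem' := by
        rintro c _ ⟨s, rfl⟩
        exact ⟨(CurvesB.HZero.gl k X c) • s, const_smul_germ F (p x') c s⟩ }
  let P : Submodule k M := (PP A N M).restrictScalars k
  intro t
  by_contra hcon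
  have hcon' : t ∉ V ⊔ P := by
    intro ht
    rw [Submodule.mem_sup] at ht
    obtain ⟨_, ⟨s, rfl⟩, r, hr, rfl⟩ := ht
    apply hcon
    refine ⟨s, ?_⟩
    rw [add_sub_cancel_left]
    exact hr
  obtain ⟨l, hlt, hl⟩ := Submodule.exists_le_ker_of_notMem hcon'
  have hlV : ∀ s : Γ(F, ⊤), l (F.presheaf.germ ⊤ (p x') trivial s) = 0 := fun s =>
    hl (Submodule.mem_sup_left ⟨s, rfl⟩)
  have hlP : ∀ m ∈ PP A N M, l m = 0 := fun m hm => hl (Submodule.mem_sup_right hm)
  obtain ⟨ρ, hρ1, hρ2⟩ := exists_toTensor hpb x' hrat N hN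
  obtain ⟨Q, _, _, i, Λ, h1, h2, h3, h4⟩ := exists_ext (A := A) K N (B := B) (p.stalkMap x').hom
    (Curv2.stalkMap K X' x') ρ hρ1 hρ2 l hlP
  let g : F'.presheaf.stalk x' →ₗ[B] Q := Fdesc.PullbackStalk.lift p (Q := Q) (M := F) i h1
  have hg : ∀ m : M, g (Fdesc.PullbackStalk.canAdd p F x' m) = i m :=
    Fdesc.PullbackStalk.lift_canAdd p (Q := Q) (M := F) i h1
  -- germs of global sections of the pullback are killed
  have hglob : ∀ y : Γ(F', ⊤), Λ (g (F'.presheaf.germ ⊤ x' trivial y)) = 0 := by
    intro y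
    have hfl : Flat (Spec.map (CommRingCat.ofHom (algebraMap k K))) := by
      rw [HasRingHomProperty.Spec_iff (P := @Flat), CommRingCat.hom_ofHom,
        RingHom.flat_algebraMap_iff]
      infer_instance
    have hsp := (VarietyB.FlatH0.isBC_top hpb F hF).span_eq_top
    have htop : (⊤ : X'.Opens) ≤
      (X' ↘ Spec (CommRingCat.of K)) ⁻¹ᵁ (⊤ : (Spec (CommRingCat.of K)).Opens) := le_top
    let _ := VarietyB.FlatH0.modOver (X' ↘ Spec (CommRingCat.of K))
      ((Scheme.Modules.pullback p).obj F) htop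
    have hy : y ∈ Submodule.span Γ(Spec (CommRingCat.of K), ⊤)
        (Set.range (VarietyB.PullSec.sec p F (U := ⊤) (V := ⊤) le_top)) := by
      rw [hsp]; exact Submodule.mem_top
    induction hy using Submodule.span_induction with
    | zero => rw [map_zero, map_zero, map_zero]
    | add t t' _ _ ht ht' => rw [map_add, map_add, map_add, ht, ht', add_zero]
    | mem y hy =>
      obtain ⟨m, rfl⟩ := hy
      have h9 : F'.presheaf.germ ⊤ x' trivial (VarietyB.PullSec.sec p F le_top m) =
          Fdesc.PullbackStalk.canAdd p F x' (F.presheaf.germ ⊤ (p x') trivial m) :=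
        VarietyB.PullSec.germ_sec p F (U := ⊤) (V := ⊤) le_top x' trivial m
      exact (congrArg (fun z => Λ (g z)) h9).trans
        ((congrArg Λ (hg _)).trans ((h3 _).trans (by rw [hlV, map_zero])))
    | smul a y _ hy =>
      obtain ⟨c, rfl⟩ := (Scheme.ΓSpecIso (CommRingCat.of K)).symm.commRingCatIsoToRingEquiv.surjective a
      have h5 : ((Scheme.ΓSpecIso (CommRingCat.of K)).symm.commRingCatIsoToRingEquiv c) • y =
          (CurvesB.HZero.gl K X' c) • y := by
        have h6 : (X' ↘ Spec (CommRingCat.of K)).appLE ⊤ ⊤ htop =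
            (X' ↘ Spec (CommRingCat.of K)).appTop :=
          (X' ↘ Spec (CommRingCat.of K)).appLE_eq_app
        change ((X' ↘ Spec (CommRingCat.of K)).appLE ⊤ ⊤ htop
          ((Scheme.ΓSpecIso (CommRingCat.of K)).inv c)) • y = _
        rw [h6]
        rfl
      rw [h5, ← const_smul_germ, map_smul, h2, hy, mul_zero]
  -- `n^N` is killed
  have hkill : ∀ r ∈ n ^ N, ∀ q : Q, r • q = 0 := by
    intro r hr q
    have hr' : r ∈ ((IsLocalRing.maximalIdeal A) ^ N).map (p.stalkMap x').hom := by
      rw [Ideal.map_pow, ← maximalIdeal_eq_map hpb x' hrat]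
      exact hr
    refine Submodule.span_induction (p := fun r _ => r • q = 0) ?_ (zero_smul _ _)
      (fun x y _ _ hx hy => by rw [add_smul, hx, hy, add_zero])
      (fun a x _ hx => by rw [smul_eq_mul, mul_smul, hx, smul_zero]) hr'
    rintro _ ⟨a, ha, rfl⟩
    exact h4 a ha q
  obtain ⟨y, hy⟩ := h (Fdesc.PullbackStalk.canAdd p F x' t)
  have h7 : g (Fdesc.PullbackStalk.canAdd p F x' t - F'.presheaf.germ ⊤ x' trivial y) = 0 := by
    refine Submodule.smul_induction_on hy (fun r hr m _ => ?_) fun x y hx hy => ?_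
    · rw [map_smul]
      exact hkill r hr _
    · rw [map_add, hx, hy, add_zero]
  rw [map_sub, hg, sub_eq_zero] at h7
  have h8 := congrArg Λ h7
  rw [hglob, h3] at h8
  exact hlt ((map_eq_zero _).mp h8)

end K850.JetBC
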