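import Mathlib.AlgebraicGeometry.AffineScheme
import Mathlib.AlgebraicGeometry.Pullbacks
import Mathlib.AlgebraicGeometry.Morphisms.QuasiCompact
import Mathlib.AlgebraicGeometry.Morphisms.Flat
import Mathlib.RingTheory.RingHom.EssFiniteType
import Mathlib.RingTheory.RingHomProperties

/-!
# Locally essentially of finite type morphisms: local nature, composition, base change
-/

set_option autoImplicit false
universe u
open CategoryTheory CategoryTheory.Limits AlgebraicGeometry TopologicalSpace Opposite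

namespace K850.EssFT

variable {X Y Z : Scheme.{u}}

/-- `f` is essentially of finite type near `x` over the affine open `U`. -/
def EFTAt (f : X ⟶ Y) (U : Y.Opens) (x : X) : Prop :=
  ∃ V : X.affineOpens, x ∈ (V : X.Opens) ∧ ∃ e : (V : X.Opens) ≤ f ⁻¹ᵁ U,
    (f.appLE U (V : X.Opens) e).hom.EssFiniteType

lemma cover_iff (f : X ⟶ Y) (U : Y.Opens) :
    (∃ T : Set X.affineOpens, (⋃ V ∈ T, ((V : X.Opens) : Set ↥X)) = ((f ⁻¹ᵁ U) : Set ↥X) ∧
        ∀ V ∈ T, ∃ e : (V : X.Opens) ≤ f ⁻¹ᵁ U, (f.appLE U (V : X.Opens) e).hom.EssFiniteType) ↔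
      ∀ x ∈ f ⁻¹ᵁ U, EFTAt f U x := by
  constructor
  · rintro ⟨T, hT, h⟩ x hx
    have hx' : x ∈ (⋃ V ∈ T, ((V : X.Opens) : Set ↥X)) := by rw [hT]; exact hx
    simp only [Set.mem_iUnion] at hx'
    obtain ⟨V, hV, hxV⟩ := hx'
    exact ⟨V, hxV, h V hV⟩
  · intro h
    refine ⟨{V | ∃ e : (V : X.Opens) ≤ f ⁻¹ᵁ U, (f.appLE U (V : X.Opens) e).hom.EssFiniteType}, ?_,
      fun V hV => hV⟩
    apply Set.Subset.antisymm
    · refine Set.iUnion₂_subset fun V hV => ?_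
      obtain ⟨e, _⟩ := hV
      exact e
    · intro x hx
      obtain ⟨V, hxV, hV⟩ := h x hx
      simp only [Set.mem_iUnion]
      exact ⟨V, hV, hxV⟩

/-- localisation maps are essentially of finite type -/
lemma map_basicOpen_EFT {U : X.Opens} (hU : IsAffineOpen U) (r : Γ(X, U)) (V : X.Opens)
    (i : V ⟶ U) (e : V = X.basicOpen r) : (X.presheaf.map i.op).hom.EssFiniteType := by
  have h := hU.isLocalization_of_eq_basicOpen r i e
  let := (X.presheaf.map i.op).hom.toAlgebra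
  have h' : IsLocalization (Submonoid.powers r) Γ(X, V) := h
  have : (algebraMap Γ(X, U) Γ(X, V)).EssFiniteType :=
    RingHom.EssFiniteType.holdsForLocalization _ (Submonoid.powers r)
  exact this

/-- The key step: the property at a point does not depend on the affine open of the target. -/
lemma EFTAt.change {f : X ⟶ Y} {U₁ U₂ : Y.Opens} (hU₁ : IsAffineOpen U₁) (hU₂ : IsAffineOpen U₂)
    {x : X} (hx : f x ∈ U₂) (h : EFTAt f U₁ x) : EFTAt f U₂ x := by
  obtain ⟨V, hxV, e, hV⟩ := h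
  have hx1 : f x ∈ U₁ := e hxV
  obtain ⟨a, b, hab, hxa⟩ := exists_basicOpen_le_affine_inter hU₁ hU₂ (f x) ⟨hx1, hx⟩
  let W : Y.Opens := Y.basicOpen a
  have hW1 : W ≤ U₁ := Y.basicOpen_le a
  have hW2 : W ≤ U₂ := by rw [show W = Y.basicOpen b from hab]; exact Y.basicOpen_le b
  let c : Γ(X, V) := f.appLE U₁ V e a
  have hc : X.basicOpen c = (V : X.Opens) ⊓ f ⁻¹ᵁ W := by
    exact Scheme.basicOpen_appLE f V U₁ e a
  have hc' : X.basicOpen c ≤ f ⁻¹ᵁ W := by rw [hc]; exact inf_le_right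
  have hcV : X.basicOpen c ≤ (V : X.Opens) := X.basicOpen_le c
  -- the composite `Γ(U₁) → Γ(V) → Γ(V')`
  have h1 : (X.presheaf.map (homOfLE hcV).op).hom.EssFiniteType :=
    map_basicOpen_EFT V.2 c _ _ rfl
  have h2 : (f.appLE U₁ (X.basicOpen c) (hcV.trans e)).hom.EssFiniteType := by
    rw [← Scheme.Hom.appLE_map f e (homOfLE hcV).op, CommRingCat.hom_comp]
    exact hV.comp h1
  have h3 : (f.appLE W (X.basicOpen c) hc').hom.EssFiniteType := by
    apply RingHom.EssFiniteType.of_comp (Y.presheaf.map (homOfLE hW1).op).hom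
    rw [← CommRingCat.hom_comp, Scheme.Hom.map_appLE]
    exact h2
  have h4 : (Y.presheaf.map (homOfLE hW2).op).hom.EssFiniteType :=
    map_basicOpen_EFT hU₂ b _ _ hab
  refine ⟨⟨X.basicOpen c, V.2.basicOpen c⟩, ?_, hc'.trans (fun z hz => hW2 hz), ?_⟩
  · show x ∈ X.basicOpen c
    rw [hc]; exact ⟨hxV, hxa⟩
  · have h5 := h4.comp h3
    rw [← CommRingCat.hom_comp, Scheme.Hom.map_appLE] at h5
    exact h5

/-- composition -/
lemma EFTAt.comp {f : X ⟶ Y} {g : Y ⟶ Z} {U : Z.Opens} {x : X}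
    (hg : EFTAt g U (f x)) (hf : ∀ V : Y.affineOpens, ∀ x ∈ f ⁻¹ᵁ (V : Y.Opens), EFTAt f V x) :
    EFTAt (f ≫ g) U x := by
  obtain ⟨V, hxV, e, hV⟩ := hg
  obtain ⟨W, hxW, e', hW⟩ := hf V x hxV
  refine ⟨W, hxW, e'.trans (fun z hz => e hz), ?_⟩
  have h := hV.comp hW
  rw [← CommRingCat.hom_comp, Scheme.Hom.appLE_comp_appLE] at h
  exact h

/-- base change -/
lemma EFTAt.baseChange {X Y Y' P : Scheme.{u}} {f : X ⟶ Y} {g : Y' ⟶ Y} {p : P ⟶ X} {q : P ⟶ Y'}
    (H : IsPullback p q f g) {U : Y.Opens} (hU : IsAffineOpen U) {U' : Y'.Opens}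
    (hU' : IsAffineOpen U') {z : P} (hz : q z ∈ U') (hf : EFTAt f U (p z)) : EFTAt q U' z := by
  obtain ⟨V, hxV, e, hV⟩ := hf
  have hzU : g (q z) ∈ U := by
    have h1 : f (p z) ∈ U := e hxV
    have h2 : g (q z) = f (p z) := by
      rw [← Scheme.Hom.comp_apply, ← Scheme.Hom.comp_apply, H.w]
    rw [h2]; exact h1
  -- shrink `U'`
  obtain ⟨W, ⟨hW, hzW, hWU⟩⟩ : ∃ W : Y'.Opens, IsAffineOpen W ∧ q z ∈ W ∧ W ≤ g ⁻¹ᵁ U := by
    obtain ⟨W, hW, hzW, hWU⟩ :=
      Y'.isBasis_affineOpens.exists_subset_of_mem_open (show q z ∈ ((g ⁻¹ᵁ U : Y'.Opens) : Set Y') from hzU)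
        (g ⁻¹ᵁ U).2
    obtain ⟨W, hW, rfl⟩ := hW
    exact ⟨W, hW, hzW, hWU⟩
  apply EFTAt.change hW hU' hz
  let UP : P.Opens := p ⁻¹ᵁ (V : X.Opens) ⊓ q ⁻¹ᵁ W
  have hUP : UP = p ⁻¹ᵁ (V : X.Opens) ⊓ q ⁻¹ᵁ W := rfl
  have hUPaff : IsAffineOpen UP := by
    have : IsAffine _ := hU
    have : IsAffine _ := hW
    have : IsAffine _ := V.2
    exact .of_isIso (Scheme.Hom.isPullback_resLE H hWU e hUP).isoPullback.hom
  have hiso := isIso_pushoutSection_of_isAffineOpen H hWU e hUP hU hW V.2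
  have hpo := (isIso_pushoutSection_iff H hWU e hUP).mp hiso
  refine ⟨⟨UP, hUPaff⟩, ⟨hxV, hzW⟩, inf_le_right, ?_⟩
  have h1 := RingHom.EssFiniteType.isStableUnderBaseChange.pushout_inl
    RingHom.EssFiniteType.respectsIso (g.appLE U W hWU) (f.appLE U V e) hV
  have h2 : q.appLE W UP (by simp [UP]) = pushout.inl (g.appLE U W hWU) (f.appLE U V e) ≫
      hpo.flip.isoPushout.inv := by
    rw [IsPushout.inl_isoPushout_inv]
  show (q.appLE W UP _).hom.EssFiniteType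
  rw [h2]
  exact RingHom.EssFiniteType.respectsIso.1 _ (hpo.flip.isoPushout.symm.commRingCatIsoToRingEquiv) h1

end K850.EssFT
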