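import Groth.Prelude.Def_CurvBase
import Mathlib.AlgebraicGeometry.Stalk
import Mathlib.AlgebraicGeometry.PullbackCarrier
import Mathlib.AlgebraicGeometry.Fiber

/-!
# The local ring of a base change to a field extension at the point over a rational point

`k ⊆ K` fields, `p : X' ⟶ X` the base change of a `k`-scheme to `K`, `x'` a point of `X'` over the
rational point `x = p x'`, `A`, `B` the local rings.

* `hom_ext`, `exists_hom` : universal property of `A → B ← K`;
* `eq_of_rational` : `x'` is the only point over `x`;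
* `exists_const_add` : `B = K + m_A B`;
* `maximalIdeal_eq_map` : `m_B = m_A B`;
* `exists_toTensor` : a ring homomorphism `B → K ⊗ A/m^N` compatible with `A` and `K`.
-/

set_option autoImplicit false
universe u

open CategoryTheory CategoryTheory.Limits AlgebraicGeometry TopologicalSpace Opposite
open scoped TensorProduct

namespace K850.FieldBC

section alg

variable {k : Type u} [Field k] {A : Type u} [CommRing A] [IsLocalRing A] [Algebra k A]
  (hrat : Function.Surjective (algebraMap k (IsLocalRing.ResidueField A)))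

theorem isLocalHom_of_nilpotent_ker {C S : Type*} [CommRing C] [CommRing S] (f : C →+* S)
    (hf : Function.Surjective f) (hk : ∀ t, f t = 0 → IsNilpotent t) : IsLocalHom f := by
  refine ⟨fun c hc => ?_⟩
  obtain ⟨s, hs⟩ := hc.exists_right_inv
  obtain ⟨d, rfl⟩ := hf s
  have h1 : IsNilpotent (c * d - 1) := hk _ (by rw [map_sub, map_mul, hs, map_one, sub_self])
  have h2 : IsUnit (c * d) := by
    have := h1.isUnit_add_one
    simpa using this
  exact isUnit_of_mul_isUnit_left h2

include hrat in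
theorem exists_scalar (a : A) : ∃ c : k, a - algebraMap k A c ∈ IsLocalRing.maximalIdeal A := by
  obtain ⟨c, hc⟩ := hrat (IsLocalRing.residue A a)
  refine ⟨c, ?_⟩
  rw [← IsLocalRing.residue_eq_zero_iff, map_sub, sub_eq_zero, ← hc]
  rfl

/-- The evaluation `A → k` at a rational point. -/
noncomputable def ev : A →ₐ[k] k :=
  ((AlgEquiv.ofBijective (Algebra.ofId k (IsLocalRing.ResidueField A))
    ⟨(algebraMap k (IsLocalRing.ResidueField A)).injective, hrat⟩).symm.toAlgHom).comp
    (IsScalarTower.toAlgHom k A (IsLocalRing.ResidueField A))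

theorem ev_eq_zero_iff (a : A) : ev hrat a = 0 ↔ a ∈ IsLocalRing.maximalIdeal A := by
  rw [← IsLocalRing.residue_eq_zero_iff]
  change (AlgEquiv.ofBijective (Algebra.ofId k (IsLocalRing.ResidueField A))
    ⟨(algebraMap k (IsLocalRing.ResidueField A)).injective, hrat⟩).symm
      (IsLocalRing.residue A a) = 0 ↔ _
  rw [map_eq_zero_iff _ (AlgEquiv.injective _)]

theorem sub_ev_mem (a : A) : a - algebraMap k A (ev hrat a) ∈ IsLocalRing.maximalIdeal A := by
  rw [← ev_eq_zero_iff hrat, map_sub, AlgHom.commutes, Algebra.algebraMap_self, RingHom.id_apply,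
    sub_self]

instance isLocalHom_ev : IsLocalHom (ev hrat).toRingHom := by
  refine ⟨fun a ha => ?_⟩
  by_contra h
  have h1 : a ∈ IsLocalRing.maximalIdeal A := h
  rw [← ev_eq_zero_iff hrat] at h1
  have h2 : (ev hrat).toRingHom a = 0 := h1
  rw [h2] at ha
  exact not_isUnit_zero ha

variable (K : Type u) [Field K] [Algebra k K] (N : ℕ)

/-- `K ⊗ A/m^N`. -/
abbrev CC (k A K : Type u) [Field k] [CommRing A] [IsLocalRing A] [Algebra k A] [Field K]
    [Algebra k K] (N : ℕ) : Type u :=
  K ⊗[k] (A ⧸ IsLocalRing.maximalIdeal A ^ N)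

/-- `A → K ⊗ A/m^N`. -/
noncomputable def alp : A →+* CC k A K N :=
  (Algebra.TensorProduct.includeRight (R := k) (A := K)
    (B := A ⧸ IsLocalRing.maximalIdeal A ^ N)).toRingHom.comp (Ideal.Quotient.mk _)

/-- `K → K ⊗ A/m^N`. -/
noncomputable def kap : K →+* CC k A K N :=
  (Algebra.TensorProduct.includeLeft (R := k) (S := k) (A := K)
    (B := A ⧸ IsLocalRing.maximalIdeal A ^ N)).toRingHom

theorem alp_algebraMap (a : k) : alp (k := k) (A := A) K N (algebraMap k A a) = kap K N (algebraMap k K a) := by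
  change (1 : K) ⊗ₜ[k] (algebraMap k (A ⧸ IsLocalRing.maximalIdeal A ^ N) a) =
    (algebraMap k K a) ⊗ₜ[k] (1 : A ⧸ IsLocalRing.maximalIdeal A ^ N)
  rw [Algebra.algebraMap_eq_smul_one, Algebra.algebraMap_eq_smul_one, TensorProduct.tmul_smul,
    TensorProduct.smul_tmul']

/-- `K ⊗ A/m^N → K`. -/
noncomputable def pi0 (hN : N ≠ 0) : CC k A K N →ₐ[k] K :=
  Algebra.TensorProduct.lift (AlgHom.id k K)
    ((Algebra.ofId k K).comp (Ideal.Quotient.liftₐ _ (ev hrat) fun a ha =>
      (ev_eq_zero_iff hrat a).mpr (Ideal.pow_le_self hN ha)))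
    fun _ _ => Commute.all _ _

theorem pi0_kap (hN : N ≠ 0) (c : K) : pi0 hrat K N hN (kap K N c) = c := by
  change pi0 hrat K N hN (c ⊗ₜ[k] (1 : A ⧸ IsLocalRing.maximalIdeal A ^ N)) = c
  rw [pi0, Algebra.TensorProduct.lift_tmul, map_one, mul_one]
  rfl

theorem pi0_alp (hN : N ≠ 0) (a : A) :
    pi0 hrat K N hN (alp K N a) = algebraMap k K (ev hrat a) := by
  change pi0 hrat K N hN ((1 : K) ⊗ₜ[k] (Ideal.Quotient.mk _ a)) = _
  rw [pi0, Algebra.TensorProduct.lift_tmul, map_one, one_mul]
  rfl

theorem sub_pi0_mem (hN : N ≠ 0) (t : CC k A K N) :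
    t - kap K N (pi0 hrat K N hN t) ∈ (IsLocalRing.maximalIdeal A).map (alp (k := k) K N) := by
  induction t using TensorProduct.induction_on with
  | zero => simp
  | add x y hx hy =>
    have : x + y - kap K N (pi0 hrat K N hN (x + y)) =
        (x - kap K N (pi0 hrat K N hN x)) + (y - kap K N (pi0 hrat K N hN y)) := by
      rw [map_add, map_add]; ring
    rw [this]
    exact add_mem hx hy
  | tmul c a =>
    obtain ⟨a, rfl⟩ := Ideal.Quotient.mk_surjective a
    have h1 : c ⊗ₜ[k] (Ideal.Quotient.mk (IsLocalRing.maximalIdeal A ^ N) a) =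
        kap (k := k) (A := A) K N c * alp (k := k) K N a := by
      change _ = (c ⊗ₜ[k] (1 : A ⧸ IsLocalRing.maximalIdeal A ^ N)) *
        ((1 : K) ⊗ₜ[k] (Ideal.Quotient.mk (IsLocalRing.maximalIdeal A ^ N) a))
      rw [Algebra.TensorProduct.tmul_mul_tmul, mul_one, one_mul]
    have h2 : kap (k := k) (A := A) K N c * alp (k := k) K N a -
        kap K N (pi0 hrat K N hN (kap K N c * alp K N a)) =
        kap K N c * alp (k := k) K N (a - algebraMap k A (ev hrat a)) := by
      rw [map_mul, pi0_kap, pi0_alp, map_mul, map_sub, alp_algebraMap, mul_sub]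
    rw [h1, h2]
    exact Ideal.mul_mem_left _ _ (Ideal.mem_map_of_mem _ (sub_ev_mem hrat a))

theorem map_alp_pow : ((IsLocalRing.maximalIdeal A).map (alp (k := k) K N)) ^ N = ⊥ := by
  rw [← Ideal.map_pow, Ideal.map_eq_bot_iff_le_ker]
  intro a ha
  rw [RingHom.mem_ker]
  change (1 : K) ⊗ₜ[k] (Ideal.Quotient.mk (IsLocalRing.maximalIdeal A ^ N) a) = 0
  rw [Ideal.Quotient.eq_zero_iff_mem.mpr ha, TensorProduct.tmul_zero]

theorem isLocalHom_pi0 (hN : N ≠ 0) : IsLocalHom (pi0 hrat K N hN).toRingHom := by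
  refine isLocalHom_of_nilpotent_ker _ (fun c => ⟨kap K N c, pi0_kap hrat K N hN c⟩) fun t ht => ?_
  have h1 := sub_pi0_mem hrat K N hN t
  have h2 : pi0 hrat K N hN t = 0 := ht
  rw [h2, map_zero, sub_zero] at h1
  refine ⟨N, ?_⟩
  have h3 := Ideal.pow_mem_pow h1 N
  rw [map_alp_pow] at h3
  exact h3

include hrat in
theorem isLocalRing_CC (hN : N ≠ 0) : IsLocalRing (CC k A K N) := by
  have := isLocalHom_pi0 hrat K N hN
  exact RingHom.domain_isLocalRing (pi0 hrat K N hN).toRingHom

include hrat in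
theorem isLocalHom_alp (hN : N ≠ 0) : IsLocalHom (alp (k := k) (A := A) K N) := by
  refine ⟨fun a ha => ?_⟩
  have h1 : IsUnit (pi0 hrat K N hN (alp K N a)) := ha.map (pi0 hrat K N hN)
  rw [pi0_alp] at h1
  have h2 : IsUnit (ev hrat a) := by
    rw [isUnit_iff_ne_zero] at h1 ⊢
    rintro h
    rw [h, map_zero] at h1
    exact h1 rfl
  exact (isLocalHom_ev hrat).map_nonunit a h2

end alg

section scheme

variable {k : Type u} [Field k] {X : Scheme.{u}} [X.Over (Spec (CommRingCat.of k))]
  {K : Type u} [Field K] [Algebra k K] {X' : Scheme.{u}} [X'.Over (Spec (CommRingCat.of K))]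
  {p : X' ⟶ X}

variable (k X) in
theorem fromSpecStalk_structure (x : X) :
    X.fromSpecStalk x ≫ (X ↘ Spec (CommRingCat.of k)) =
      Spec.map (CommRingCat.ofHom (Curv2.stalkMap k X x)) := by
  apply ext_of_isAffine
  rw [Scheme.Hom.comp_appTop, Scheme.fromSpecStalk_appTop, ← cancel_epi (Scheme.ΓSpecIso _).inv,
    ← Scheme.ΓSpecIso_inv_naturality]
  ext a
  simp only [homOfLE_refl, op_id, CategoryTheory.Functor.map_id, Category.comp_id]
  rfl

theorem exists_local_hom {C : CommRingCat.{u}} [IsLocalRing C]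
    (h : Spec C ⟶ X) (x : X) (hx : h (IsLocalRing.closedPoint C) = x) :
    ∃ φ : X.presheaf.stalk x ⟶ C, IsLocalHom φ.hom ∧ h = Spec.map φ ≫ X.fromSpecStalk x := by
  subst hx
  exact ⟨Scheme.stalkClosedPointTo h, inferInstance,
    (Scheme.Spec_stalkClosedPointTo_fromSpecStalk h).symm⟩

theorem specMap_fromSpecStalk_injective {C : CommRingCat.{u}} {x : X}
    {φ ψ : X.presheaf.stalk x ⟶ C}
    (h : Spec.map φ ≫ X.fromSpecStalk x = Spec.map ψ ≫ X.fromSpecStalk x) : φ = ψ := by
  rw [cancel_mono] at h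
  exact Spec.map_injective h

theorem comp_closedPoint {C : CommRingCat.{u}} [IsLocalRing C] {Y : Scheme.{u}} (r : Spec C ⟶ Y)
    (p : Y ⟶ X) {x : X} (φ : X.presheaf.stalk x ⟶ C) [IsLocalHom φ.hom]
    (h : r ≫ p = Spec.map φ ≫ X.fromSpecStalk x) : p (r (IsLocalRing.closedPoint C)) = x := by
  have h1 : p (r (IsLocalRing.closedPoint C)) = (r ≫ p) (IsLocalRing.closedPoint C) := rfl
  have h2 : (Spec.map φ ≫ X.fromSpecStalk x) (IsLocalRing.closedPoint C) =
    X.fromSpecStalk x ((Spec.map φ) (IsLocalRing.closedPoint C)) := rfl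
  have h3 : (Spec.map φ) (IsLocalRing.closedPoint C) =
      IsLocalRing.closedPoint (X.presheaf.stalk x) := Spec_closedPoint (f := φ)
  exact h1.trans ((congrArg (fun (m : Spec C ⟶ X) => m (IsLocalRing.closedPoint C)) h).trans
    (h2.trans ((congrArg _ h3).trans Scheme.fromSpecStalk_closedPoint)))

variable (hpb : IsPullback p (X' ↘ Spec (CommRingCat.of K)) (X ↘ Spec (CommRingCat.of k))
      (Spec.map (CommRingCat.ofHom (algebraMap k K))))

include hpb

theorem stalkMap_const (x' : X') (a : k) :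
    p.stalkMap x' (Curv2.stalkMap k X (p x') a) = Curv2.stalkMap K X' x' (algebraMap k K a) := by
  have h1 : CommRingCat.ofHom (Curv2.stalkMap k X (p x')) ≫ p.stalkMap x' =
      CommRingCat.ofHom (algebraMap k K) ≫ CommRingCat.ofHom (Curv2.stalkMap K X' x') := by
    apply Spec.map_injective
    rw [Spec.map_comp, Spec.map_comp, ← fromSpecStalk_structure, ← fromSpecStalk_structure,
      ← Category.assoc, Scheme.SpecMap_stalkMap_fromSpecStalk, Category.assoc, Category.assoc,
      hpb.w]
  exact congr($h1 a)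

/-- `A → B ← K` is an epimorphism. -/
theorem hom_ext {D : Type u} [CommRing D] (x' : X') (f g : X'.presheaf.stalk x' →+* D)
    (h1 : ∀ a, f (p.stalkMap x' a) = g (p.stalkMap x' a))
    (h2 : ∀ c, f (Curv2.stalkMap K X' x' c) = g (Curv2.stalkMap K X' x' c)) : f = g := by
  have h3 : CommRingCat.ofHom f = CommRingCat.ofHom g := by
    apply specMap_fromSpecStalk_injective
    apply hpb.hom_ext
    · rw [Category.assoc, Category.assoc, ← Scheme.SpecMap_stalkMap_fromSpecStalk,
        ← Category.assoc, ← Category.assoc, ← Spec.map_comp, ← Spec.map_comp]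
      congr 2
      ext a
      exact h1 a
    · rw [Category.assoc, Category.assoc, fromSpecStalk_structure, ← Spec.map_comp,
        ← Spec.map_comp]
      congr 1
      ext c
      exact h2 c
  exact congrArg CommRingCat.Hom.hom h3

/-- Universal property of the local ring `B`. -/
theorem exists_hom {C : Type u} [CommRing C] [IsLocalRing C] (x' : X')
    (hx' : ∀ x'', p x'' = p x' → x'' = x') (α : X.presheaf.stalk (p x') →+* C) [IsLocalHom α]
    (κ : K →+* C) (h : ∀ a : k, α (Curv2.stalkMap k X (p x') a) = κ (algebraMap k K a)) :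
    ∃ ρ : X'.presheaf.stalk x' →+* C, (∀ a, ρ (p.stalkMap x' a) = α a) ∧
      ∀ c, ρ (Curv2.stalkMap K X' x' c) = κ c := by
  have h0 : (Spec.map (CommRingCat.ofHom α) ≫ X.fromSpecStalk (p x')) ≫
      (X ↘ Spec (CommRingCat.of k)) = Spec.map (CommRingCat.ofHom κ) ≫
        Spec.map (CommRingCat.ofHom (algebraMap k K)) := by
    rw [Category.assoc, fromSpecStalk_structure, ← Spec.map_comp, ← Spec.map_comp]
    congr 1
    ext a
    exact h a
  let r : Spec (CommRingCat.of C) ⟶ X' := hpb.lift _ _ h0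
  have hr1 : r ≫ p = _ := hpb.lift_fst _ _ h0
  have hr2 : r ≫ (X' ↘ Spec (CommRingCat.of K)) = _ := hpb.lift_snd _ _ h0
  have hloc : IsLocalHom (CommRingCat.ofHom α).hom := ‹IsLocalHom α›
  have hpt : r (IsLocalRing.closedPoint C) = x' := by
    exact hx' _ (comp_closedPoint (C := CommRingCat.of C) r p (CommRingCat.ofHom α) hr1)
  obtain ⟨ρ, -, hρ⟩ := exists_local_hom (C := CommRingCat.of C) r x' hpt
  refine ⟨ρ.hom, fun a => ?_, fun c => ?_⟩
  · have h1 : p.stalkMap x' ≫ ρ = CommRingCat.ofHom α := by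
      apply specMap_fromSpecStalk_injective
      rw [← hr1, hρ, Spec.map_comp, Category.assoc, Category.assoc,
        Scheme.SpecMap_stalkMap_fromSpecStalk]
    exact congr($h1 a)
  · have h1 : CommRingCat.ofHom (Curv2.stalkMap K X' x') ≫ ρ = CommRingCat.ofHom κ := by
      apply Spec.map_injective
      rw [← hr2, hρ, Spec.map_comp, Category.assoc, fromSpecStalk_structure]
    exact congr($h1 c)

/-- Over a rational point there is at most one point. -/
theorem eq_of_rational (x' x'' : X') (h : p x'' = p x')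
    (hrat : Function.Surjective (Curv2.resMap k X (p x'))) : x'' = x' := by
  let A := X.presheaf.stalk (p x')
  let _ : Algebra k A := Curv2.stalkAlgebra k X (p x')
  let e : A →ₐ[k] k := ev (A := A) hrat
  let j : Spec (CommRingCat.of k) ⟶ X :=
    Spec.map (CommRingCat.ofHom e.toRingHom) ≫ X.fromSpecStalk (p x')
  have hj : j ≫ (X ↘ Spec (CommRingCat.of k)) = 𝟙 _ := by
    rw [Category.assoc, fromSpecStalk_structure, ← Spec.map_comp, ← Spec.map_id]
    congr 1
    ext a
    exact e.commutes a
  have hloc : IsLocalHom (CommRingCat.ofHom e.toRingHom).hom := isLocalHom_ev (A := A) hrat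
  have hpt : j (IsLocalRing.closedPoint k) = p x' := by
    exact comp_closedPoint (C := CommRingCat.of k) (𝟙 _) j (CommRingCat.ofHom e.toRingHom)
      (Category.id_comp _)
  have sq1 : IsPullback (pullback.snd j p) (pullback.fst j p) p j :=
    (IsPullback.of_hasPullback j p).flip
  have sq2 := sq1.paste_horiz hpb.flip
  rw [hj] at sq2
  have hiso : IsIso (pullback.snd j p ≫ (X' ↘ Spec (CommRingCat.of K))) :=
    sq2.isIso_fst_of_isIso
  have hsub : Subsingleton (pullback j p : Scheme.{u}) := by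
    have : Subsingleton (Spec (CommRingCat.of K)) := inferInstance
    exact ((asIso (pullback.snd j p ≫ (X' ↘ Spec (CommRingCat.of K)))).hom.homeomorph.toEquiv).subsingleton
  obtain ⟨z', -, hz'⟩ := Scheme.Pullback.exists_preimage_pullback (f := j) (g := p)
    (IsLocalRing.closedPoint k) x' hpt
  obtain ⟨z'', -, hz''⟩ := Scheme.Pullback.exists_preimage_pullback (f := j) (g := p)
    (IsLocalRing.closedPoint k) x'' (hpt.trans h.symm)
  rw [← hz', ← hz'', Subsingleton.elim z' z'']

/-- `B = K + m_A B`. -/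
theorem exists_const_add (x' : X') (hrat : Function.Surjective (Curv2.resMap k X (p x')))
    (b : X'.presheaf.stalk x') : ∃ c : K, b - Curv2.stalkMap K X' x' c ∈
      (IsLocalRing.maximalIdeal (X.presheaf.stalk (p x'))).map (p.stalkMap x').hom := by
  let A := X.presheaf.stalk (p x')
  let _ : Algebra k A := Curv2.stalkAlgebra k X (p x')
  let e : A →ₐ[k] k := ev (A := A) hrat
  have hloc1 : IsLocalHom e.toRingHom := isLocalHom_ev (A := A) hrat
  let α : A →+* K := (algebraMap k K).comp e.toRingHom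
  have hloc : IsLocalHom α := RingHom.isLocalHom_comp _ _
  obtain ⟨σ, hσ1, hσ2⟩ := exists_hom hpb x' (fun x'' h => eq_of_rational hpb x' x'' h hrat) α
    (RingHom.id K) (fun a => congrArg (algebraMap k K) (e.commutes a))
  let I := (IsLocalRing.maximalIdeal (X.presheaf.stalk (p x'))).map (p.stalkMap x').hom
  let q : X'.presheaf.stalk x' →+* X'.presheaf.stalk x' ⧸ I := Ideal.Quotient.mk I
  have key : q = (q.comp (Curv2.stalkMap K X' x')).comp σ := by
    refine hom_ext hpb x' _ _ (fun a => ?_) fun c => ?_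
    · change q (p.stalkMap x' a) = q (Curv2.stalkMap K X' x' (σ (p.stalkMap x' a)))
      rw [hσ1]
      change q (p.stalkMap x' a) = q (Curv2.stalkMap K X' x' (algebraMap k K (e a)))
      rw [← stalkMap_const hpb, ← sub_eq_zero, ← map_sub, Ideal.Quotient.eq_zero_iff_mem,
        ← map_sub]
      exact Ideal.mem_map_of_mem _ (sub_ev_mem (A := A) hrat a)
    · change q (Curv2.stalkMap K X' x' c) = q (Curv2.stalkMap K X' x' (σ (Curv2.stalkMap K X' x' c)))
      rw [hσ2]
      rfl
  refine ⟨σ b, ?_⟩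
  have h1 : q b = q (Curv2.stalkMap K X' x' (σ b)) := congr($key b)
  rwa [← sub_eq_zero, ← map_sub, Ideal.Quotient.eq_zero_iff_mem] at h1

/-- `m_B = m_A B`. -/
theorem maximalIdeal_eq_map (x' : X') (hrat : Function.Surjective (Curv2.resMap k X (p x'))) :
    IsLocalRing.maximalIdeal (X'.presheaf.stalk x') =
      (IsLocalRing.maximalIdeal (X.presheaf.stalk (p x'))).map (p.stalkMap x').hom := by
  have hl : IsLocalHom (p.stalkMap x').hom := inferInstance
  have hle : (IsLocalRing.maximalIdeal (X.presheaf.stalk (p x'))).map (p.stalkMap x').hom ≤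
      IsLocalRing.maximalIdeal (X'.presheaf.stalk x') :=
    ((IsLocalRing.local_hom_TFAE (p.stalkMap x').hom).out 0 2).mp hl
  apply le_antisymm _ hle
  intro b hb
  obtain ⟨c, hc⟩ := exists_const_add hpb x' hrat b
  have h1 : Curv2.stalkMap K X' x' c ∈ IsLocalRing.maximalIdeal (X'.presheaf.stalk x') := by
    have := sub_mem hb (hle hc)
    rwa [sub_sub_cancel] at this
  have h2 : c = 0 := by
    by_contra hne
    exact h1 ((isUnit_iff_ne_zero.mpr hne).map (Curv2.stalkMap K X' x'))
  rw [h2, map_zero, sub_zero] at hc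
  exact hc

/-- The homomorphism `B → K ⊗ A/m^N`. -/
theorem exists_toTensor (x' : X') (hrat : Function.Surjective (Curv2.resMap k X (p x')))
    (N : ℕ) (hN : N ≠ 0) :
    letI : Algebra k (X.presheaf.stalk (p x')) := Curv2.stalkAlgebra k X (p x')
    ∃ ρ : X'.presheaf.stalk x' →+* CC k (X.presheaf.stalk (p x')) K N,
      (∀ a, ρ (p.stalkMap x' a) = alp K N a) ∧
      ∀ c, ρ (Curv2.stalkMap K X' x' c) = kap K N c := by
  let _ : Algebra k (X.presheaf.stalk (p x')) := Curv2.stalkAlgebra k X (p x')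
  have h1 : IsLocalRing (CC k (X.presheaf.stalk (p x')) K N) :=
    isLocalRing_CC (A := X.presheaf.stalk (p x')) hrat K N hN
  have h2 : IsLocalHom (alp (k := k) (A := X.presheaf.stalk (p x')) K N) :=
    isLocalHom_alp (A := X.presheaf.stalk (p x')) hrat K N hN
  exact exists_hom hpb x' (fun x'' h => eq_of_rational hpb x' x'' h hrat)
    (alp (k := k) (A := X.presheaf.stalk (p x')) K N) (kap K N)
    (fun a => alp_algebraMap (A := X.presheaf.stalk (p x')) K N a)

end scheme

end K850.FieldBC
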