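import Groth.Agent.W4c2seshadripos.K850.FieldBC

/-!
# Extension of functionals to the base change of a module over a local ring with rational residue field
-/

set_option autoImplicit false
universe u

open scoped TensorProduct

namespace K850.TensExt

open K850.FieldBC

variable {k : Type u} [Field k] {A : Type u} [CommRing A] [IsLocalRing A] [Algebra k A]
  (K : Type u) [Field K] [Algebra k K] (N : ℕ)
  (M : Type u) [AddCommGroup M] [Module A M] [Module k M] [IsScalarTower k A M]

/-- `m^N M`. -/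
abbrev PP (A : Type u) [CommRing A] [IsLocalRing A] (N : ℕ) (M : Type u) [AddCommGroup M]
    [Module A M] : Submodule A M := (IsLocalRing.maximalIdeal A ^ N) • ⊤

/-- `M / m^N M`. -/
abbrev Mb (A : Type u) [CommRing A] [IsLocalRing A] (N : ℕ) (M : Type u) [AddCommGroup M]
    [Module A M] : Type u := M ⧸ (PP A N M)

/-- the action of `A` on `K ⊗ M/m^N M`. -/
noncomputable def th0 : A →ₐ[k] Module.End K (K ⊗[k] (Mb A N M)) where
  toFun a := (Algebra.lsmul k k (Mb A N M) a).baseChange K
  map_one' := by rw [map_one]; exact LinearMap.baseChange_id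
  map_mul' a b := by rw [map_mul]; exact LinearMap.baseChange_comp _ _
  map_zero' := by rw [map_zero]; exact LinearMap.baseChange_zero
  map_add' a b := by rw [map_add]; exact LinearMap.baseChange_add _ _
  commutes' r := by
    apply LinearMap.ext
    intro t
    induction t using TensorProduct.induction_on with
    | zero => rw [map_zero, map_zero]
    | add x y hx hy => rw [map_add, map_add, hx, hy]
    | tmul c m =>
      rw [LinearMap.baseChange_tmul, Module.algebraMap_end_apply]
      change c ⊗ₜ[k] (algebraMap k A r • m) = r • (c ⊗ₜ[k] m)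
      rw [algebraMap_smul, TensorProduct.tmul_smul]

theorem th0_tmul (a : A) (c : K) (m : Mb A N M) :
    th0 K N M a (c ⊗ₜ[k] m) = c ⊗ₜ[k] (a • m) := rfl

theorem smul_Mb_eq_zero (a : A) (ha : a ∈ IsLocalRing.maximalIdeal A ^ N) (m : Mb A N M) :
    a • m = 0 := by
  obtain ⟨m, rfl⟩ := Submodule.Quotient.mk_surjective _ m
  rw [← Submodule.Quotient.mk_smul, Submodule.Quotient.mk_eq_zero]
  exact Submodule.smul_mem_smul ha trivial

theorem th0_eq_zero (a : A) (ha : a ∈ IsLocalRing.maximalIdeal A ^ N) : th0 (k := k) K N M a = 0 := by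
  apply LinearMap.ext
  intro t
  induction t using TensorProduct.induction_on with
  | zero => simp
  | add x y hx hy => rw [map_add, hx, hy]; simp
  | tmul c m => rw [th0_tmul, smul_Mb_eq_zero N M a ha, TensorProduct.tmul_zero]; rfl

/-- the action of `A/m^N` on `K ⊗ M/m^N M`. -/
noncomputable def th1 : (A ⧸ IsLocalRing.maximalIdeal A ^ N) →ₐ[k]
    Module.End K (K ⊗[k] (Mb A N M)) :=
  Ideal.Quotient.liftₐ _ (th0 K N M) fun a ha => th0_eq_zero K N M a ha

theorem th1_mk (a : A) : th1 (k := k) K N M (Ideal.Quotient.mk _ a) = th0 K N M a := rfl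

theorem th1_commute (c : K) (t : A ⧸ IsLocalRing.maximalIdeal A ^ N) :
    Commute (Algebra.ofId K (Module.End K (K ⊗[k] (Mb A N M))) c) (th1 K N M t) :=
  Algebra.commutes c _

/-- the action of `K ⊗ A/m^N` on `K ⊗ M/m^N M`. -/
noncomputable def th : CC k A K N →ₐ[K] Module.End K (K ⊗[k] (Mb A N M)) :=
  Algebra.TensorProduct.lift (Algebra.ofId K (Module.End K (K ⊗[k] (Mb A N M))))
    (th1 K N M) (th1_commute K N M)

theorem th_alp (a : A) : th K N M (alp (k := k) K N a) = th0 K N M a := by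
  change th K N M ((1 : K) ⊗ₜ[k] (Ideal.Quotient.mk _ a)) = _
  rw [th, Algebra.TensorProduct.lift_tmul, map_one, one_mul]
  rfl

theorem th_kap (c : K) (t : K ⊗[k] (Mb A N M)) : th K N M (kap (k := k) K N c) t = c • t := by
  change th K N M (c ⊗ₜ[k] (1 : A ⧸ IsLocalRing.maximalIdeal A ^ N)) t = _
  rw [th, Algebra.TensorProduct.lift_tmul, map_one, mul_one]
  rfl

variable {M}

/-- a functional on `M/m^N M` extended to `K ⊗ M/m^N M`. -/
noncomputable def ext (l : M →ₗ[k] k) (hl : ∀ m ∈ PP A N M, l m = 0) :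
    (K ⊗[k] (Mb A N M)) →ₗ[K] K :=
  (TensorProduct.AlgebraTensorModule.rid k K K).toLinearMap ∘ₗ
    ((((PP A N M).restrictScalars k).liftQ l hl) ∘ₗ
      (Submodule.Quotient.restrictScalarsEquiv k (PP A N M)).symm.toLinearMap).baseChange K

theorem ext_tmul (l : M →ₗ[k] k) (hl : ∀ m ∈ PP A N M, l m = 0) (c : K) (m : M) :
    ext K N l hl (c ⊗ₜ[k] (Submodule.Quotient.mk m)) = c * algebraMap k K (l m) := by
  simp only [ext, LinearMap.comp_apply, LinearMap.baseChange_tmul, LinearEquiv.coe_coe]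
  have : (((PP A N M).restrictScalars k).liftQ l hl)
      ((Submodule.Quotient.restrictScalarsEquiv k (PP A N M)).symm (Submodule.Quotient.mk m)) =
      l m := rfl
  rw [this, TensorProduct.AlgebraTensorModule.rid_tmul, Algebra.smul_def, mul_comm]

/-- Extension of functionals. -/
theorem exists_ext {B : Type u} [CommRing B] (φ : A →+* B) (ιB : K →+* B)
    (ρ : B →+* CC k A K N) (h1 : ∀ a, ρ (φ a) = alp K N a) (h2 : ∀ c, ρ (ιB c) = kap K N c)
    (l : M →ₗ[k] k) (hl : ∀ m ∈ PP A N M, l m = 0) :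
    ∃ (Q : Type u) (_ : AddCommGroup Q) (_ : Module B Q) (i : M →+ Q) (Λ : Q →+ K),
      (∀ a m, i (a • m) = φ a • i m) ∧ (∀ c q, Λ (ιB c • q) = c * Λ q) ∧
      (∀ m, Λ (i m) = algebraMap k K (l m)) ∧
      (∀ a ∈ IsLocalRing.maximalIdeal A ^ N, ∀ q : Q, φ a • q = 0) := by
  let Q := K ⊗[k] (Mb A N M)
  let r : B →+* Module.End K Q := (th (k := k) (A := A) K N M).toRingHom.comp ρ
  let _ : Module B Q := Module.compHom Q r
  have hsm : ∀ (b : B) (q : Q), b • q = r b q := fun _ _ => rfl
  refine ⟨Q, inferInstance, inferInstance,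
    (TensorProduct.mk k K (Mb A N M) 1).toAddMonoidHom.comp (PP A N M).mkQ.toAddMonoidHom,
    (ext K N l hl).toAddMonoidHom, ?_, ?_, ?_, ?_⟩
  · intro a m
    rw [hsm]
    change (1 : K) ⊗ₜ[k] (Submodule.Quotient.mk (a • m)) = th K N M (ρ (φ a)) ((1 : K) ⊗ₜ[k]
      (Submodule.Quotient.mk m))
    rw [h1, th_alp, th0_tmul]
    rfl
  · intro c q
    rw [hsm]
    change ext K N l hl (th K N M (ρ (ιB c)) q) = c * ext K N l hl q
    rw [h2, th_kap, map_smul]
    rfl
  · intro m
    change ext K N l hl ((1 : K) ⊗ₜ[k] (Submodule.Quotient.mk m)) = _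
    rw [ext_tmul, one_mul]
  · intro a ha q
    rw [hsm]
    change th K N M (ρ (φ a)) q = 0
    rw [h1, th_alp, th0_eq_zero K N M a ha]
    rfl

end K850.TensExt
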